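import Mathlib
import Groth.Agent.Lib.Helper1.PdFibre
import Groth.Agent.Lib.Helper1.RegGlobal
import Groth.Agent.Lib.Helper8.Val.SatFG

/-!
# helper8: projective dimension over local rings of flat finitely presented algebras over a
valuation ring with regular fibre
-/

set_option autoImplicit false
universe u

open TensorProduct Function CategoryTheory

namespace Groth.Agent.H8.ValPd

open Groth.Agent.H1.PdFibre

section VMod

variable (V Al : Type u) [CommRing V] [IsDomain V] [ValuationRing V] [CommRing Al] [Algebra V Al]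

/-- bundled finitely presented `Al`-modules flat over `V` -/
structure VMod where
  /-- the carrier -/
  Z : Type u
  [instG : AddCommGroup Z]
  [instB : Module Al Z]
  [instA : Module V Z]
  [tow : IsScalarTower V Al Z]
  [fp : Module.FinitePresentation Al Z]
  [fl : Module.Flat V Z]

attribute [instance] VMod.instG VMod.instB VMod.instA VMod.tow VMod.fp VMod.fl

variable {V Al}

namespace VMod

theorem exists_pr (X : VMod V Al) : ∃ (n : ℕ) (π : (Fin n → Al) →ₗ[Al] X.Z), Surjective π :=
  Module.Finite.exists_fin' Al X.Z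

/-- the chosen number of generators -/
noncomputable def rk (X : VMod V Al) : ℕ := X.exists_pr.choose

/-- the chosen free cover -/
noncomputable def pr (X : VMod V Al) : (Fin X.rk → Al) →ₗ[Al] X.Z :=
  X.exists_pr.choose_spec.choose

theorem pr_surjective (X : VMod V Al) : Surjective X.pr := X.exists_pr.choose_spec.choose_spec

variable [Algebra.EssFiniteType V Al] [Module.Flat V Al]

theorem flat_ker (X : VMod V Al) : Module.Flat V (LinearMap.ker X.pr) := by
  haveI : Module.Flat V (Fin X.rk → Al) := Module.Flat.trans V Al (Fin X.rk → Al)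
  have h2 : Module.Flat V (LinearMap.ker (X.pr.restrictScalars V)) :=
    Groth.Agent.H9.flat_ker_of_surjective (X.pr.restrictScalars V) X.pr_surjective
  refine Module.Flat.of_linearEquiv (M := LinearMap.ker (X.pr.restrictScalars V)) ?_
  exact
    { toFun := fun x => ⟨x.1, x.2⟩
      invFun := fun x => ⟨x.1, x.2⟩
      map_add' := fun x y => rfl
      map_smul' := fun c x => rfl
      left_inv := fun x => rfl
      right_inv := fun x => rfl }

/-- the first syzygy -/
noncomputable def next (X : VMod V Al) : VMod V Al :=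
  { Z := LinearMap.ker X.pr
    fp := by
      haveI : Module.Flat V (LinearMap.ker X.pr) := X.flat_ker
      haveI : Module.Finite Al (LinearMap.ker X.pr) :=
        Module.Finite.iff_fg.mpr (Module.FinitePresentation.fg_ker X.pr X.pr_surjective)
      exact Groth.Agent.H8.Val.fp_of_flat V Al (LinearMap.ker X.pr)
    fl := X.flat_ker }

/-- the sequence of syzygies -/
noncomputable def seq (X : VMod V Al) : ℕ → VMod V Al
  | 0 => X
  | n + 1 => (seq X n).next

/-- the syzygy short complex -/
noncomputable def sc (X : VMod V Al) : ShortComplex (ModuleCat.{u} Al) :=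
  ShortComplex.mk (ModuleCat.ofHom (LinearMap.ker X.pr).subtype) (ModuleCat.ofHom X.pr) (by
    ext x
    exact x.2)

omit [Algebra.EssFiniteType V Al] [Module.Flat V Al] in
theorem sc_shortExact (X : VMod V Al) : X.sc.ShortExact := by
  haveI : Mono X.sc.f := (ModuleCat.mono_iff_injective _).mpr Subtype.val_injective
  haveI : Epi X.sc.g := (ModuleCat.epi_iff_surjective _).mpr X.pr_surjective
  refine ShortComplex.ShortExact.mk' ?_ inferInstance inferInstance
  rw [ShortComplex.ShortExact.moduleCat_exact_iff_function_exact]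
  exact LinearMap.exact_subtype_ker_map X.pr

variable (K : Type u) [CommRing K] [Algebra V K]

/-- base-changed syzygy complex -/
noncomputable def scFib (X : VMod V Al) : ShortComplex (ModuleCat.{u} (Al ⊗[V] K)) :=
  ShortComplex.mk
    (ModuleCat.ofHom ((LinearMap.ker X.pr).subtype.baseChange (Al ⊗[V] K)))
    (ModuleCat.ofHom (X.pr.baseChange (Al ⊗[V] K))) (by
      ext x
      change (X.pr.baseChange (Al ⊗[V] K))
        (((LinearMap.ker X.pr).subtype.baseChange (Al ⊗[V] K)) ((1 : Al ⊗[V] K) ⊗ₜ[Al] x)) = 0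
      rw [LinearMap.baseChange_tmul, LinearMap.baseChange_tmul]
      have : X.pr ((LinearMap.ker X.pr).subtype x) = 0 := x.2
      rw [this, TensorProduct.tmul_zero])

omit [Algebra.EssFiniteType V Al] [Module.Flat V Al] in
theorem scFib_shortExact (X : VMod V Al) : (X.scFib K).ShortExact := by
  haveI : Mono (X.scFib K).f := (ModuleCat.mono_iff_injective _).mpr
    (lTensor_fibre_injective K X.pr X.pr_surjective)
  haveI : Epi (X.scFib K).g := (ModuleCat.epi_iff_surjective _).mpr
    (LinearMap.lTensor_surjective (Al ⊗[V] K) X.pr_surjective)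
  refine ShortComplex.ShortExact.mk' ?_ inferInstance inferInstance
  rw [ShortComplex.ShortExact.moduleCat_exact_iff_function_exact]
  exact lTensor_exact (Al ⊗[V] K) (LinearMap.exact_subtype_ker_map X.pr) X.pr_surjective

/-- dimension shifting over `Al` -/
theorem hasPDLT_iff (X : VMod V Al) (n : ℕ) :
    HasProjectiveDimensionLT (ModuleCat.of Al X.Z) (n + 1) ↔
      Module.Projective Al (X.seq n).Z := by
  have h := hasProjectiveDimensionLT_iff_projective_syzygy
    (fun n => ModuleCat.of Al (X.seq n).Z) (fun n => ModuleCat.of Al (Fin (X.seq n).rk → Al))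
    (fun n => (X.seq n).sc.f) (fun n => (X.seq n).sc.g) (fun n => (X.seq n).sc.zero)
    (fun n => (X.seq n).sc_shortExact)
    (fun n => (IsProjective.iff_projective (R := Al) (Fin (X.seq n).rk → Al)).mp inferInstance)
    n 0
  rw [Nat.zero_add] at h
  exact h.trans (IsProjective.iff_projective (R := Al) (X.seq n).Z).symm

/-- dimension shifting over the fibre ring -/
theorem hasPDLT_fib_iff (X : VMod V Al) (n : ℕ) :
    HasProjectiveDimensionLT (ModuleCat.of (Al ⊗[V] K) ((Al ⊗[V] K) ⊗[Al] X.Z)) (n + 1) ↔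
      Module.Projective (Al ⊗[V] K) ((Al ⊗[V] K) ⊗[Al] (X.seq n).Z) := by
  have h := hasProjectiveDimensionLT_iff_projective_syzygy
    (fun n => ModuleCat.of (Al ⊗[V] K) ((Al ⊗[V] K) ⊗[Al] (X.seq n).Z))
    (fun n => ModuleCat.of (Al ⊗[V] K) ((Al ⊗[V] K) ⊗[Al] (Fin (X.seq n).rk → Al)))
    (fun n => ((X.seq n).scFib K).f) (fun n => ((X.seq n).scFib K).g)
    (fun n => ((X.seq n).scFib K).zero)
    (fun n => (X.seq n).scFib_shortExact K)
    (fun n => (IsProjective.iff_projective (R := Al ⊗[V] K)
      ((Al ⊗[V] K) ⊗[Al] (Fin (X.seq n).rk → Al))).mp inferInstance) n 0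
  rw [Nat.zero_add] at h
  exact h.trans (IsProjective.iff_projective (R := Al ⊗[V] K) _).symm

end VMod

end VMod

section crit

variable (V Al : Type u) [CommRing V] [CommRing Al] [Algebra V Al]

/-- Nakayama/fibre criterion: a finitely presented module over the local ring `Al`, flat over `V`,
whose fibre over `V ⧸ p` is projective, is projective. -/
theorem projective_of_fibre [IsLocalRing Al] (p : Ideal V)
    (hp : p.map (algebraMap V Al) ≠ ⊤)
    (N : Type u) [AddCommGroup N] [Module Al N] [Module V N] [IsScalarTower V Al N]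
    [Module.FinitePresentation Al N] [Module.Flat V N]
    (h : Module.Projective (Al ⊗[V] (V ⧸ p)) ((Al ⊗[V] (V ⧸ p)) ⊗[Al] N)) :
    Module.Projective Al N := by
  obtain ⟨e, -⟩ : ∃ e : (Al ⧸ p.map (algebraMap V Al)) ≃ₐ[Al] Al ⊗[V] (V ⧸ p),
      e = Algebra.TensorProduct.quotIdealMapEquivTensorQuot Al p := ⟨_, rfl⟩
  letI : Algebra (Al ⊗[V] (V ⧸ p)) (Al ⧸ p.map (algebraMap V Al)) :=
    e.symm.toAlgHom.toRingHom.toAlgebra
  haveI : IsScalarTower Al (Al ⊗[V] (V ⧸ p)) (Al ⧸ p.map (algebraMap V Al)) :=
    ⟨fun a c z => by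
      change e.symm (a • c) * z = a • (e.symm c * z)
      rw [map_smul, smul_mul_assoc]⟩
  haveI : Module.Flat (Al ⊗[V] (V ⧸ p)) ((Al ⊗[V] (V ⧸ p)) ⊗[Al] N) := Module.Flat.of_projective
  haveI : Module.Flat (Al ⧸ p.map (algebraMap V Al))
      ((Al ⧸ p.map (algebraMap V Al)) ⊗[Al ⊗[V] (V ⧸ p)] ((Al ⊗[V] (V ⧸ p)) ⊗[Al] N)) :=
    inferInstance
  haveI : Module.Flat (Al ⧸ p.map (algebraMap V Al)) ((Al ⧸ p.map (algebraMap V Al)) ⊗[Al] N) :=
    Module.Flat.of_linearEquiv (AlgebraTensorModule.cancelBaseChange Al (Al ⊗[V] (V ⧸ p))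
      (Al ⧸ p.map (algebraMap V Al)) (Al ⧸ p.map (algebraMap V Al)) N).symm
  haveI := Groth.Agent.H1.FibreFree.free_of_flat_of_flat_fibre (A := V) (S := Al) (N := N) p hp
  infer_instance

end crit

end Groth.Agent.H8.ValPd
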