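import Mathlib
import Groth.Agent.Lib.Helper8.ValPd.Basic

/-!
# helper8: projective dimension over local rings of flat finitely presented algebras over a
valuation ring with regular fibre (S16178, S16179, S16180)
-/

set_option autoImplicit false
universe u

open TensorProduct Function CategoryTheory

namespace Groth.Agent.H8.ValPd

section tf

theorem flat_of_smul_eq_zero (V N : Type*) [CommRing V] [IsDomain V] [ValuationRing V]
    [AddCommGroup N] [Module V N]
    (h : ∀ (v : V) (x : N), v ≠ 0 → v • x = 0 → x = 0) : Module.Flat V N := by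
  rw [Module.Flat.flat_iff_torsion_eq_bot_of_isBezout, eq_bot_iff]
  intro x hx
  rw [Submodule.mem_torsion_iff] at hx
  obtain ⟨a, ha⟩ := hx
  rw [Submodule.mem_bot]
  rw [Submonoid.smul_def] at ha
  exact h a x (nonZeroDivisors.coe_ne_zero a) ha

theorem eq_zero_of_flat (V N : Type*) [CommRing V] [IsDomain V] [AddCommGroup N] [Module V N]
    [Module.Flat V N] (v : V) (x : N) (hv : v ≠ 0) (h : v • x = 0) : x = 0 := by
  have h1 : x ∈ Submodule.torsion V N :=
    (Submodule.mem_torsion_iff x).mpr ⟨⟨v, mem_nonZeroDivisors_of_ne_zero hv⟩, h⟩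
  rw [Module.Flat.torsion_eq_bot] at h1
  exact (Submodule.mem_bot V).mp h1

theorem al_torsionFree (V Al : Type*) [CommRing V] [IsDomain V] [CommRing Al] [Algebra V Al]
    [Module.Flat V Al] (v : V) (a : Al) (hv : v ≠ 0) (h : algebraMap V Al v * a = 0) : a = 0 :=
  eq_zero_of_flat V Al v a hv (by rw [Algebra.smul_def]; exact h)

theorem dual_torsionFree (V Al : Type*) [CommRing V] [IsDomain V] [CommRing Al] [Algebra V Al]
    [Module.Flat V Al] (W : Type*) [AddCommGroup W] [Module Al W]
    (v : V) (y : Module.Dual Al W) (hv : v ≠ 0) (h : algebraMap V Al v • y = 0) : y = 0 := by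
  ext w
  have h2 := LinearMap.congr_fun h w
  rw [LinearMap.smul_apply, LinearMap.zero_apply, smul_eq_mul] at h2
  rw [LinearMap.zero_apply]
  exact al_torsionFree V Al v (y w) hv h2

theorem pi_torsionFree (V Al : Type*) [CommRing V] [IsDomain V] [CommRing Al] [Algebra V Al]
    [Module.Flat V Al] (ι : Type*)
    (v : V) (y : ι → Al) (hv : v ≠ 0) (h : algebraMap V Al v • y = 0) : y = 0 := by
  funext i
  have h2 := congrFun h i
  rw [Pi.smul_apply, Pi.zero_apply, smul_eq_mul] at h2
  exact al_torsionFree V Al v (y i) hv h2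

end tf

section abstract

variable (V Al : Type u) [CommRing V] [IsDomain V] [ValuationRing V] [CommRing Al]
  [Algebra V Al] [IsLocalRing Al] [Algebra.EssFiniteType V Al] [Module.Flat V Al] (p : Ideal V)
  (n : ℕ)

/-- abstract form of S16178 -/
theorem pd_le_of_flat
    (hreg : IsRegularLocalRing (Al ⧸ p.map (algebraMap V Al)))
    (hn : ringKrullDim (Al ⧸ p.map (algebraMap V Al)) = n)
    (M : Type u) [AddCommGroup M] [Module Al M] [Module.FinitePresentation Al M] [Module V M]
    [IsScalarTower V Al M] [Module.Flat V M] :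
    HasProjectiveDimensionLT (ModuleCat.of Al M) (n + 1) := by
  have hJ : p.map (algebraMap V Al) ≠ ⊤ := by
    haveI : IsLocalRing (Al ⧸ p.map (algebraMap V Al)) := hreg.toIsLocalRing
    exact Ideal.Quotient.nontrivial_iff.mp inferInstance
  obtain ⟨e, -⟩ : ∃ e : (Al ⧸ p.map (algebraMap V Al)) ≃ₐ[Al] Al ⊗[V] (V ⧸ p),
      e = Algebra.TensorProduct.quotIdealMapEquivTensorQuot Al p := ⟨_, rfl⟩
  haveI : IsRegularLocalRing (Al ⊗[V] (V ⧸ p)) := IsRegularLocalRing.of_ringEquiv e.toRingEquiv
  have hdim : ringKrullDim (Al ⊗[V] (V ⧸ p)) = n := by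
    rw [← ringKrullDim_eq_of_ringEquiv e.toRingEquiv]
    exact hn
  let X : VMod V Al := ⟨M⟩
  change HasProjectiveDimensionLT (ModuleCat.of Al X.Z) (n + 1)
  rw [X.hasPDLT_iff n]
  apply projective_of_fibre V Al p hJ
  apply (X.hasPDLT_fib_iff (V ⧸ p) n).mp
  exact Groth.Agent.H1.Reg.hasProjectiveDimensionLT_of_isRegularLocalRing _ n hdim _

/-- torsion-free finite modules have projective dimension `≤ n` -/
theorem pd_le_of_torsionFree
    (hreg : IsRegularLocalRing (Al ⧸ p.map (algebraMap V Al)))
    (hn : ringKrullDim (Al ⧸ p.map (algebraMap V Al)) = n)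
    (N : Type u) [AddCommGroup N] [Module Al N] [Module.Finite Al N]
    (hN : ∀ (v : V) (y : N), v ≠ 0 → algebraMap V Al v • y = 0 → y = 0) :
    HasProjectiveDimensionLT (ModuleCat.of Al N) (n + 1) := by
  letI : Module V N := Module.compHom N (algebraMap V Al)
  haveI : IsScalarTower V Al N := ⟨fun v a y => by
    change (v • a) • y = algebraMap V Al v • (a • y)
    rw [Algebra.smul_def, mul_smul]⟩
  haveI : Module.Flat V N := flat_of_smul_eq_zero V N hN
  haveI : Module.FinitePresentation Al N := Groth.Agent.H8.Val.fp_of_flat V Al N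
  exact pd_le_of_flat V Al p n hreg hn N

omit [IsLocalRing Al] in
/-- kernels of maps from finite modules to torsion-free modules are finitely generated -/
theorem ker_fg {P Q : Type u} [AddCommGroup P] [Module Al P] [Module.Finite Al P]
    [AddCommGroup Q] [Module Al Q] (f : P →ₗ[Al] Q)
    (hQ : ∀ (v : V) (y : Q), v ≠ 0 → algebraMap V Al v • y = 0 → y = 0) :
    (LinearMap.ker f).FG := by
  letI : Module V Q := Module.compHom Q (algebraMap V Al)
  haveI : IsScalarTower V Al Q := ⟨fun v a y => by
    change (v • a) • y = algebraMap V Al v • (a • y)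
    rw [Algebra.smul_def, mul_smul]⟩
  haveI : Module.Finite Al (LinearMap.range f) := inferInstance
  haveI : Module.Flat V (LinearMap.range f) :=
    flat_of_smul_eq_zero V _ (fun v y hv h => Subtype.ext (hQ v y.1 hv (congrArg Subtype.val h)))
  haveI : Module.FinitePresentation Al (LinearMap.range f) :=
    Groth.Agent.H8.Val.fp_of_flat V Al _
  have := Module.FinitePresentation.fg_ker f.rangeRestrict f.surjective_rangeRestrict
  rwa [LinearMap.ker_rangeRestrict] at this

omit [IsLocalRing Al] in
include V in
/-- the dual of a finite module is finite -/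
theorem finite_dual (M : Type u) [AddCommGroup M] [Module Al M] [Module.Finite Al M] :
    Module.Finite Al (Module.Dual Al M) := by
  obtain ⟨r, π, hπ⟩ := Module.Finite.exists_fin' Al M
  have h1 : (LinearMap.ker (LinearMap.ker π).dualRestrict).FG :=
    ker_fg V Al (LinearMap.ker π).dualRestrict (dual_torsionFree V Al _)
  rw [Submodule.dualRestrict_ker_eq_dualAnnihilator,
    ← LinearMap.range_dualMap_eq_dualAnnihilator_ker_of_surjective π hπ] at h1
  haveI : Module.Finite Al (LinearMap.range π.dualMap) := Module.Finite.iff_fg.mpr h1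
  exact Module.Finite.equiv
    (LinearEquiv.ofInjective π.dualMap (LinearMap.dualMap_injective_of_surjective hπ)).symm

/-- short exact sequences in `ModuleCat` from linear maps -/
noncomputable def mkSC {N₁ N₂ N₃ : Type u} [AddCommGroup N₁] [Module Al N₁] [AddCommGroup N₂]
    [Module Al N₂] [AddCommGroup N₃] [Module Al N₃] (f : N₁ →ₗ[Al] N₂) (g : N₂ →ₗ[Al] N₃)
    (hfg : Function.Exact f g) : ShortComplex (ModuleCat.{u} Al) :=
  ShortComplex.mk (ModuleCat.ofHom f) (ModuleCat.ofHom g) (by
    ext x
    exact hfg.apply_apply_eq_zero x)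

omit [IsDomain V] [ValuationRing V] [Algebra V Al] [IsLocalRing Al] [Algebra.EssFiniteType V Al]
  [Module.Flat V Al] in
theorem mkSC_shortExact {N₁ N₂ N₃ : Type u} [AddCommGroup N₁] [Module Al N₁] [AddCommGroup N₂]
    [Module Al N₂] [AddCommGroup N₃] [Module Al N₃] (f : N₁ →ₗ[Al] N₂) (g : N₂ →ₗ[Al] N₃)
    (hfg : Function.Exact f g) (hf : Injective f) (hg : Surjective g) :
    (mkSC Al f g hfg).ShortExact := by
  haveI : Mono (mkSC Al f g hfg).f := (ModuleCat.mono_iff_injective _).mpr hf
  haveI : Epi (mkSC Al f g hfg).g := (ModuleCat.epi_iff_surjective _).mpr hg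
  refine ShortComplex.ShortExact.mk' ?_ inferInstance inferInstance
  rw [ShortComplex.ShortExact.moduleCat_exact_iff_function_exact]
  exact hfg

/-- abstract form of S16179 -/
theorem pd_le_succ
    (hreg : IsRegularLocalRing (Al ⧸ p.map (algebraMap V Al)))
    (hn : ringKrullDim (Al ⧸ p.map (algebraMap V Al)) = n)
    (M : Type u) [AddCommGroup M] [Module Al M] [Module.FinitePresentation Al M] :
    HasProjectiveDimensionLT (ModuleCat.of Al M) (n + 1 + 1) := by
  obtain ⟨r, π, hπ⟩ := Module.Finite.exists_fin' Al M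
  haveI : Module.Finite Al (LinearMap.ker π) :=
    Module.Finite.iff_fg.mpr (Module.FinitePresentation.fg_ker π hπ)
  have h1 : HasProjectiveDimensionLT (ModuleCat.of Al (LinearMap.ker π)) (n + 1) :=
    pd_le_of_torsionFree V Al p n hreg hn (LinearMap.ker π)
      (fun v y hv h => Subtype.ext (pi_torsionFree V Al (Fin r) v y.1 hv (congrArg Subtype.val h)))
  have hS := mkSC_shortExact Al (LinearMap.ker π).subtype π (LinearMap.exact_subtype_ker_map π)
    Subtype.val_injective hπ
  haveI : Projective (ModuleCat.of Al (Fin r → Al)) :=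
    (IsProjective.iff_projective (R := Al) (Fin r → Al)).mp inferInstance
  have h2 : HasProjectiveDimensionLT (ModuleCat.of Al (Fin r → Al)) (n + 1 + 1) :=
    hasProjectiveDimensionLT_of_ge _ 1 _ (by omega)
  exact hS.hasProjectiveDimensionLT_X₃ (n + 1) h1 h2

/-- abstract form of S16180 -/
theorem pd_le_pred
    (hreg : IsRegularLocalRing (Al ⧸ p.map (algebraMap V Al)))
    (hn : ringKrullDim (Al ⧸ p.map (algebraMap V Al)) = n)
    (M : Type u) [AddCommGroup M] [Module Al M] [Module.FinitePresentation Al M]
    [Module.IsReflexive Al M] :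
    HasProjectiveDimensionLT (ModuleCat.of Al M) (n - 1 + 1) := by
  haveI : Module.Finite Al (Module.Dual Al M) := finite_dual V Al M
  obtain ⟨r, π, hπ⟩ := Module.Finite.exists_fin' Al (Module.Dual Al M)
  have hrefl : Bijective (Module.Dual.eval Al M) := Module.bijective_dual_eval Al M
  obtain ⟨ι, hι⟩ : ∃ ι : M →ₗ[Al] Module.Dual Al (Fin r → Al),
      ι = π.dualMap ∘ₗ Module.Dual.eval Al M := ⟨_, rfl⟩
  have hιinj : Injective ι := by
    rw [hι, LinearMap.coe_comp]
    exact (LinearMap.dualMap_injective_of_surjective hπ).comp hrefl.1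
  obtain ⟨G, hG⟩ : ∃ G : Module.Dual Al (Fin r → Al) →ₗ[Al] Module.Dual Al (LinearMap.ker π),
      G = (LinearMap.ker π).dualRestrict := ⟨_, rfl⟩
  have hex : Function.Exact ι G.rangeRestrict := by
    intro y
    rw [← LinearMap.mem_ker, LinearMap.ker_rangeRestrict, hG,
      Submodule.dualRestrict_ker_eq_dualAnnihilator,
      ← LinearMap.range_dualMap_eq_dualAnnihilator_ker_of_surjective π hπ]
    constructor
    · rintro ⟨μ, rfl⟩
      obtain ⟨m, rfl⟩ := hrefl.2 μ
      exact ⟨m, by rw [hι]; rfl⟩
    · rintro ⟨m, rfl⟩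
      exact ⟨Module.Dual.eval Al M m, by rw [hι]; rfl⟩
  have hgs : Surjective (G.rangeRestrict : Module.Dual Al (Fin r → Al) →ₗ[Al] LinearMap.range G) :=
    G.surjective_rangeRestrict
  have hS := mkSC_shortExact Al (N₃ := LinearMap.range G) ι (G.rangeRestrict) hex hιinj hgs
  have h3 : HasProjectiveDimensionLT (ModuleCat.of Al (LinearMap.range G)) (n + 1) :=
    pd_le_of_torsionFree V Al p n hreg hn (LinearMap.range G)
      (fun v y hv h => Subtype.ext (dual_torsionFree V Al _ v y.1 hv (congrArg Subtype.val h)))
  haveI : Projective (ModuleCat.of Al (Module.Dual Al (Fin r → Al))) :=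
    (IsProjective.iff_projective (R := Al) (Module.Dual Al (Fin r → Al))).mp inferInstance
  have h2 : HasProjectiveDimensionLT (ModuleCat.of Al (Module.Dual Al (Fin r → Al)))
      (n - 1 + 1) := hasProjectiveDimensionLT_of_ge _ 1 _ (by omega)
  have h3' : HasProjectiveDimensionLT (ModuleCat.of Al (LinearMap.range G)) (n - 1 + 1 + 1) :=
    hasProjectiveDimensionLT_of_ge _ (n + 1) _ (by omega)
  exact hS.hasProjectiveDimensionLT_X₁ (n - 1 + 1) h2 h3'

end abstract

section main

variable (V : Type u) [CommRing V] [IsDomain V] [ValuationRing V]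
  (B : Type u) [CommRing B] [Algebra V B] [Module.Flat V B] [Algebra.FinitePresentation V B]
  (q : Ideal B) [q.IsPrime]

omit [IsDomain V] [ValuationRing V] [Algebra.FinitePresentation V B] in
theorem flatAl : Module.Flat V (Localization.AtPrime q) := by
  haveI : Module.Flat B (Localization.AtPrime q) := IsLocalization.flat _ q.primeCompl
  exact Module.Flat.trans V B (Localization.AtPrime q)

omit [IsDomain V] [ValuationRing V] [Module.Flat V B] in
theorem essAl : Algebra.EssFiniteType V (Localization.AtPrime q) := by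
  haveI : Algebra.EssFiniteType B (Localization.AtPrime q) :=
    Algebra.EssFiniteType.of_isLocalization _ q.primeCompl
  exact Algebra.EssFiniteType.comp V B (Localization.AtPrime q)

theorem s16178 (n : ℕ)
    (hreg : IsRegularLocalRing (Localization.AtPrime q ⧸
      Ideal.map (algebraMap V (Localization.AtPrime q)) (Ideal.comap (algebraMap V B) q)))
    (hn : ringKrullDim (Localization.AtPrime q ⧸
      Ideal.map (algebraMap V (Localization.AtPrime q)) (Ideal.comap (algebraMap V B) q)) = n)
    (M : Type u) [AddCommGroup M] [Module (Localization.AtPrime q) M]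
    [Module.FinitePresentation (Localization.AtPrime q) M]
    [Module V M] [IsScalarTower V (Localization.AtPrime q) M] [Module.Flat V M] :
    HasProjectiveDimensionLE (ModuleCat.of (Localization.AtPrime q) M) n := by
  haveI := flatAl V B q
  haveI := essAl V B q
  exact pd_le_of_flat V (Localization.AtPrime q) (Ideal.comap (algebraMap V B) q) n hreg hn M

theorem s16179 (n : ℕ)
    (hreg : IsRegularLocalRing (Localization.AtPrime q ⧸
      Ideal.map (algebraMap V (Localization.AtPrime q)) (Ideal.comap (algebraMap V B) q)))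
    (hn : ringKrullDim (Localization.AtPrime q ⧸
      Ideal.map (algebraMap V (Localization.AtPrime q)) (Ideal.comap (algebraMap V B) q)) = n)
    (M : Type u) [AddCommGroup M] [Module (Localization.AtPrime q) M]
    [Module.FinitePresentation (Localization.AtPrime q) M] :
    HasProjectiveDimensionLE (ModuleCat.of (Localization.AtPrime q) M) (n + 1) := by
  haveI := flatAl V B q
  haveI := essAl V B q
  exact pd_le_succ V (Localization.AtPrime q) (Ideal.comap (algebraMap V B) q) n hreg hn M

theorem s16180 (n : ℕ)
    (hreg : IsRegularLocalRing (Localization.AtPrime q ⧸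
      Ideal.map (algebraMap V (Localization.AtPrime q)) (Ideal.comap (algebraMap V B) q)))
    (hn : ringKrullDim (Localization.AtPrime q ⧸
      Ideal.map (algebraMap V (Localization.AtPrime q)) (Ideal.comap (algebraMap V B) q)) = n)
    (M : Type u) [AddCommGroup M] [Module (Localization.AtPrime q) M]
    [Module.FinitePresentation (Localization.AtPrime q) M]
    [Module.IsReflexive (Localization.AtPrime q) M] :
    HasProjectiveDimensionLE (ModuleCat.of (Localization.AtPrime q) M) (n - 1) := by
  haveI := flatAl V B q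
  haveI := essAl V B q
  exact pd_le_pred V (Localization.AtPrime q) (Ideal.comap (algebraMap V B) q) n hreg hn M

end main

end Groth.Agent.H8.ValPd
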