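import Mathlib
import Groth.Agent.Lib.Helper8.ValPd.Main
import Groth.Agent.Lib.Helper3.CA.FFR

/-!
# helper8: triviality of the Picard group of the generic fibre of a local essentially finite type
flat algebra with regular closed fibre over a valuation ring (S9248)
-/

set_option autoImplicit false
universe u

open TensorProduct Function CategoryTheory

namespace Groth.Agent.H8.ValPd

open Groth.Agent.H3.FFR

section ffr

variable (V Al : Type u) [CommRing V] [IsDomain V] [ValuationRing V] [CommRing Al]
  [Algebra V Al] [IsLocalRing Al] [Algebra.EssFiniteType V Al] [Module.Flat V Al] (p : Ideal V)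
  (n : ℕ)

omit [IsLocalRing Al] in
theorem VMod.seq_succ' (X : VMod V Al) (n : ℕ) : X.seq (n + 1) = X.next.seq n := by
  induction n with
  | zero => rfl
  | succ n ih =>
    change (X.seq (n + 1)).next = (X.next.seq n).next
    rw [ih]

theorem hasFFR_of_seq : ∀ (n : ℕ) (X : VMod V Al), Module.Projective Al (X.seq n).Z →
    HasFFR Al n X.Z := by
  intro n
  induction n with
  | zero =>
    intro X h
    change Module.Projective Al X.Z at h
    haveI := h
    haveI : Module.Flat Al X.Z := Module.Flat.of_projective
    exact ⟨inferInstance, Module.free_of_flat_of_isLocalRing⟩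
  | succ n ih =>
    intro X h
    rw [VMod.seq_succ'] at h
    exact ⟨Fin X.rk → Al, LinearMap.ker X.pr, inferInstance, inferInstance, inferInstance,
      inferInstance, (LinearMap.ker X.pr).subtype, X.pr, inferInstance, inferInstance,
      Submodule.injective_subtype _, LinearMap.exact_subtype_ker_map X.pr, X.pr_surjective,
      ih X.next h⟩

theorem hasFFR_of_flat
    (hreg : IsRegularLocalRing (Al ⧸ p.map (algebraMap V Al)))
    (hn : ringKrullDim (Al ⧸ p.map (algebraMap V Al)) = n)
    (M : Type u) [AddCommGroup M] [Module Al M] [Module.FinitePresentation Al M] [Module V M]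
    [IsScalarTower V Al M] [Module.Flat V M] : HasFFR Al n M := by
  have h := pd_le_of_flat V Al p n hreg hn M
  let X : VMod V Al := ⟨M⟩
  change HasProjectiveDimensionLT (ModuleCat.of Al X.Z) (n + 1) at h
  rw [X.hasPDLT_iff n] at h
  exact hasFFR_of_seq V Al n X h

theorem hasFFR_of_torsionFree
    (hreg : IsRegularLocalRing (Al ⧸ p.map (algebraMap V Al)))
    (hn : ringKrullDim (Al ⧸ p.map (algebraMap V Al)) = n)
    (N : Type u) [AddCommGroup N] [Module Al N] [Module.Finite Al N]
    (hN : ∀ (v : V) (y : N), v ≠ 0 → algebraMap V Al v • y = 0 → y = 0) :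
    HasFFR Al n N := by
  letI : Module V N := Module.compHom N (algebraMap V Al)
  haveI : IsScalarTower V Al N := ⟨fun v a y => by
    change (v • a) • y = algebraMap V Al v • (a • y)
    rw [Algebra.smul_def, mul_smul]⟩
  haveI : Module.Flat V N := flat_of_smul_eq_zero V N hN
  haveI : Module.FinitePresentation Al N := Groth.Agent.H8.Val.fp_of_flat V Al N
  exact hasFFR_of_flat V Al p n hreg hn N

/-- invertible modules over the localization of `Al` at the nonzero elements of `V` are free -/
theorem free_of_invertible (T : Type u) [CommRing T] [Algebra Al T]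
    [IsLocalization (Algebra.algebraMapSubmonoid Al (nonZeroDivisors V)) T]
    (hreg : IsRegularLocalRing (Al ⧸ p.map (algebraMap V Al)))
    (hn : ringKrullDim (Al ⧸ p.map (algebraMap V Al)) = n)
    (L : Type u) [AddCommGroup L] [Module T L] [Module.Invertible T L] : Module.Free T L := by
  classical
  letI : Module Al L := Module.compHom L (algebraMap Al T)
  haveI : IsScalarTower Al T L := ⟨fun a t y => by
    change (a • t) • y = algebraMap Al T a • (t • y)
    rw [Algebra.smul_def, mul_smul]⟩
  obtain ⟨m, f, hf⟩ := Module.Finite.exists_fin' T L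
  obtain ⟨g, hg⟩ : ∃ g : Fin m → L, g = fun i => f (fun j => if i = j then 1 else 0) :=
    ⟨_, rfl⟩
  obtain ⟨L₀, hL₀⟩ : ∃ L₀ : Submodule Al L, L₀ = Submodule.span Al (Set.range g) := ⟨_, rfl⟩
  haveI : Module.Finite Al L₀ := by
    rw [hL₀]
    exact Module.Finite.span_of_finite Al (Set.finite_range g)
  have hid := isLocalizedModule_id (Algebra.algebraMapSubmonoid Al (nonZeroDivisors V)) L T
  have htf : ∀ (v : V) (y : L₀), v ≠ 0 → algebraMap V Al v • y = 0 → y = 0 := by
    intro v y hv h
    have hu : IsUnit (algebraMap Al T (algebraMap V Al v)) :=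
      IsLocalization.map_units T (⟨algebraMap V Al v, Algebra.mem_algebraMapSubmonoid_of_mem
        (⟨v, mem_nonZeroDivisors_of_ne_zero hv⟩ : nonZeroDivisors V)⟩ :
        Algebra.algebraMapSubmonoid Al (nonZeroDivisors V))
    have h1 : algebraMap Al T (algebraMap V Al v) • (y : L) = 0 := congrArg Subtype.val h
    exact Subtype.ext (hu.smul_eq_zero.mp h1)
  have hloc : IsLocalizedModule (Algebra.algebraMapSubmonoid Al (nonZeroDivisors V))
      L₀.subtype := by
    refine ⟨hid.map_units, ?_, ?_⟩
    · intro y
      obtain ⟨c, rfl⟩ := hf y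
      obtain ⟨b, hb⟩ := IsLocalization.exist_integer_multiples_of_finite
        (Algebra.algebraMapSubmonoid Al (nonZeroDivisors V)) c
      have hb' : ∀ i, ∃ a : Al, algebraMap Al T a = (b : Al) • c i := fun i => hb i
      choose a ha using hb'
      have hmem : ∑ i, a i • g i ∈ L₀ := by
        rw [hL₀]
        exact Submodule.sum_mem _ fun i _ =>
          Submodule.smul_mem _ _ (Submodule.subset_span ⟨i, rfl⟩)
      refine ⟨(⟨∑ i, a i • g i, hmem⟩, b), ?_⟩
      change (b : Al) • f c = ∑ i, a i • g i
      rw [LinearMap.pi_apply_eq_sum_univ f c, Finset.smul_sum]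
      apply Finset.sum_congr rfl
      intro i _
      rw [← smul_assoc, ← ha i, hg]
      rfl
    · intro x₁ x₂ h
      exact ⟨1, by rw [Subtype.ext h]⟩
  have hbc : IsBaseChange T L₀.subtype :=
    (isLocalizedModule_iff_isBaseChange (Algebra.algebraMapSubmonoid Al (nonZeroDivisors V)) T
      L₀.subtype).mp hloc
  have h1 : HasFFR Al n L₀ := hasFFR_of_torsionFree V Al p n hreg hn L₀ htf
  haveI : Module.Flat Al T :=
    IsLocalization.flat T (Algebra.algebraMapSubmonoid Al (nonZeroDivisors V))
  have h2 : HasFFR T n (T ⊗[Al] L₀) := HasFFR.baseChange T n L₀ h1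
  have h3 : HasFFR T n L := h2.of_linearEquiv hbc.equiv
  obtain ⟨F₁, F₂, _, _, _, _, f1, f2, f3, f4, ⟨e⟩⟩ := stablyFree_of_projective n L h3
  haveI : Module.Free T (L × F₁) := Module.Free.of_equiv e.symm
  haveI : Module.IsStablyFree T L := Module.IsStablyFree.of_free_prod T L F₁
  exact Module.free_of_isStablyFree_of_invertible T L

end ffr

section main

attribute [local instance] Algebra.TensorProduct.rightAlgebra

theorem s9248 (R A : Type u) [CommRing R] [IsDomain R]
    [ValuationRing R] [CommRing A] [IsLocalRing A] [Algebra R A] [IsLocalHom (algebraMap R A)]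
    [Module.Flat R A] [Algebra.EssFiniteType R A]
    (hreg : IsRegularRing (TensorProduct R (IsLocalRing.ResidueField R) A)) :
    Subsingleton (CommRing.Pic (TensorProduct R (FractionRing R) A)) := by
  have hp : (IsLocalRing.maximalIdeal R).map (algebraMap R A) ≤ IsLocalRing.maximalIdeal A :=
    ((IsLocalRing.local_hom_TFAE (algebraMap R A)).out 0 2).mp
      (inferInstance : IsLocalHom (algebraMap R A))
  have hJ : (IsLocalRing.maximalIdeal R).map (algebraMap R A) ≠ ⊤ := fun h =>
    (IsLocalRing.maximalIdeal.isMaximal A).ne_top (top_le_iff.mp (h ▸ hp))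
  haveI : Nontrivial (A ⧸ (IsLocalRing.maximalIdeal R).map (algebraMap R A)) :=
    Ideal.Quotient.nontrivial_iff.mpr hJ
  haveI : IsLocalRing (A ⧸ (IsLocalRing.maximalIdeal R).map (algebraMap R A)) :=
    IsLocalRing.of_surjective' (Ideal.Quotient.mk _) Ideal.Quotient.mk_surjective
  obtain ⟨e⟩ : Nonempty ((A ⧸ (IsLocalRing.maximalIdeal R).map (algebraMap R A)) ≃+*
      TensorProduct R (IsLocalRing.ResidueField R) A) :=
    ⟨(Algebra.TensorProduct.quotIdealMapEquivQuotTensor A
      (IsLocalRing.maximalIdeal R)).toRingEquiv⟩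
  haveI := hreg
  haveI : IsRegularRing (A ⧸ (IsLocalRing.maximalIdeal R).map (algebraMap R A)) :=
    IsRegularRing.of_ringEquiv e.symm
  have hregl : IsRegularLocalRing (A ⧸ (IsLocalRing.maximalIdeal R).map (algebraMap R A)) :=
    IsRegularLocalRing.of_isRegularRing_of_isLocalRing _
  obtain ⟨n, hn⟩ : ∃ n : ℕ,
      ringKrullDim (A ⧸ (IsLocalRing.maximalIdeal R).map (algebraMap R A)) = n :=
    ⟨_, (IsRegularLocalRing.spanFinrank_maximalIdeal
      (R := A ⧸ (IsLocalRing.maximalIdeal R).map (algebraMap R A))).symm⟩
  rw [CommRing.Pic.subsingleton_iff]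
  intro L _ _ _
  haveI : IsLocalization (Algebra.algebraMapSubmonoid A (nonZeroDivisors R))
      (TensorProduct R (FractionRing R) A) :=
    IsLocalization.tensorRight (FractionRing R) (nonZeroDivisors R)
  exact free_of_invertible R A (IsLocalRing.maximalIdeal R) n _ hregl hn L

end main

end Groth.Agent.H8.ValPd
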